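import Groth.Agent.Lib.DerCat.FinDimRes
import Mathlib.Algebra.Homology.Augment

/-!
# Resolutions by a class of objects with a dimension bound
-/

universe v u

open CategoryTheory CategoryTheory.Limits ZeroObject

namespace Groth.Agent.Lib.ClassRes.Basic

open Groth.Agent.Lib.DerCat

variable {A : Type u} [Category.{v} A] [Abelian A] (P : ObjectProperty A)

/-- `X` has dimension at most `d` for `P`: the last term of exact sequences
`0 ⟶ X ⟶ P ⟶ ⋯ ⟶ P ⟶ L ⟶ 0` of length `d` lies in `P`. -/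
def V (d : ℕ) : ObjectProperty A := fun X =>
  ∀ L : CochainComplex A ℕ, Nonempty (L.X 0 ≅ X) → Mono (L.d 0 1) →
    (∀ i, 1 ≤ i → i ≤ d + 1 → L.ExactAt i) → (∀ i, d + 1 < i → IsZero (L.X i)) →
    Epi (L.d d (d + 1)) → (∀ i, 1 ≤ i → i ≤ d → P (L.X i)) → P (L.X (d + 1))

variable (h1 : ∀ X : A, ∃ (Y : A) (i : X ⟶ Y), P Y ∧ Mono i)
  (h2 : ∀ S : ShortComplex A, S.ShortExact → P S.X₁ → (P S.X₂ ↔ P S.X₃))

include h1 h2 in
theorem isAdditiveClass : Termwise.IsAdditiveClass P := by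
  have h0 : ∀ X, IsZero X → P X := fun X hX => by
    obtain ⟨Y, -, hY, -⟩ := h1 0
    let S := ShortComplex.mk (𝟙 Y) (0 : Y ⟶ X) comp_zero
    let σ : S.Splitting :=
      { r := 𝟙 Y, s := 0, f_r := Category.id_comp _, s_g := hX.eq_of_src _ _,
        id := by simp [S] }
    exact (h2 S σ.shortExact hY).1 hY
  refine ⟨h0, fun {X Y} e hX => ?_, fun {X Y} hX hY => ?_⟩
  · let S := ShortComplex.mk (0 : (0 : A) ⟶ X) e.hom zero_comp
    let σ : S.Splitting :=
      { r := 0, s := e.inv, f_r := (isZero_zero A).eq_of_src _ _, s_g := e.inv_hom_id,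
        id := by simp [S] }
    exact (h2 S σ.shortExact (h0 _ (isZero_zero A))).1 hX
  · exact (h2 _ (ShortComplex.Splitting.ofHasBinaryBiproduct X Y).shortExact hX).2 hY

theorem V_top (n : ℕ) (hn : 1 ≤ n)
    (h3 : ∀ K : CochainComplex A ℕ, (∀ i : ℕ, 1 ≤ i → i ≤ n → K.ExactAt i) →
      (∀ i : ℕ, n < i → IsZero (K.X i)) →
      Epi (K.d (n - 1) n) → (∀ i : ℕ, i < n → P (K.X i)) → P (K.X n))
    (X : A) : V P n X := by
  intro L _ _ hex hz he hP
  refine h3 (CochainComplex.truncate.obj L) (fun i hi hi' => ?_) (fun i hi => hz (i + 1) (by omega))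
    ?_ (fun i hi => hP (i + 1) (by omega) (by omega))
  · obtain ⟨i, rfl⟩ : ∃ j, i = j + 1 := ⟨i - 1, by omega⟩
    rw [HomologicalComplex.exactAt_iff' _ i (i + 1) (i + 1 + 1) (by simp) (by simp)]
    exact (HomologicalComplex.exactAt_iff' L (i + 1) (i + 1 + 1) (i + 1 + 1 + 1)
      (by simp) (by simp)).1 (hex (i + 2) (by omega) (by omega))
  · obtain ⟨m, rfl⟩ : ∃ m, n = m + 1 := ⟨n - 1, by omega⟩
    exact he

include h1 h2 in
theorem prop_of_V_zero (X : A) (h : V P 0 X) : P X := by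
  let C := (CochainComplex.single₀ A).obj X
  have hC : ∀ i, IsZero (C.X (i + 1)) := fun i =>
    HomologicalComplex.isZero_single_obj_X _ _ _ _ (by omega)
  let f : X ⟶ C.X 0 := (HomologicalComplex.singleObjXSelf (ComplexShape.up ℕ) 0 X).inv
  let L := CochainComplex.augment C f ((hC 0).eq_of_tgt _ _)
  have hf : IsIso (L.d 0 1) := inferInstanceAs (IsIso f)
  refine (isAdditiveClass P h1 h2).iso (X := C.X 0)
    (HomologicalComplex.singleObjXSelf (ComplexShape.up ℕ) 0 X) (h L ⟨Iso.refl _⟩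
    inferInstance (fun i hi hi' => ?_) (fun i hi => ?_) inferInstance (fun i hi hi' => by omega))
  · obtain rfl : i = 1 := by omega
    rw [HomologicalComplex.exactAt_iff' _ 0 1 2 (by simp) (by simp)]
    exact (ShortComplex.exact_iff_epi (S := L.sc' 0 1 2) ((hC 0).eq_of_tgt _ _)).2
      (inferInstanceAs (Epi (L.d 0 1)))
  · obtain ⟨i, rfl⟩ : ∃ j, i = j + 2 := ⟨i - 2, by omega⟩
    exact hC i

theorem V_step (d : ℕ) (S : ShortComplex A) (hS : S.ShortExact) (h : V P (d + 1) S.X₁)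
    (hP : P S.X₂) : V P d S.X₃ := by
  intro L ⟨e⟩ hm hex hz he hPL
  have := hS.mono_f
  have := hS.epi_g
  let C := CochainComplex.augment (CochainComplex.truncate.obj L) (S.g ≫ e.inv ≫ L.d 0 1)
    (by change (S.g ≫ e.inv ≫ L.d 0 1) ≫ L.d 1 2 = 0; simp only [Category.assoc]; rw [L.d_comp_d, comp_zero, comp_zero])
  let L' := CochainComplex.augment C S.f
    (by change S.f ≫ (S.g ≫ e.inv ≫ L.d 0 1) = 0; rw [S.zero_assoc, zero_comp])
  have h₁ : L'.ExactAt 1 := by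
    rw [HomologicalComplex.exactAt_iff' _ 0 1 2 (by simp) (by simp)]
    let ψ : S ⟶ L'.sc' 0 1 2 :=
      { τ₁ := 𝟙 _, τ₂ := 𝟙 _, τ₃ := e.inv ≫ L.d 0 1,
        comm₁₂ := (Category.id_comp _).trans (Category.comp_id _).symm,
        comm₂₃ := Category.id_comp _ }
    have : Epi ψ.τ₁ := inferInstanceAs (Epi (𝟙 S.X₁))
    have : IsIso ψ.τ₂ := inferInstanceAs (IsIso (𝟙 S.X₂))
    have : Mono ψ.τ₃ := inferInstanceAs (Mono (e.inv ≫ L.d 0 1))
    exact (ShortComplex.exact_iff_of_epi_of_isIso_of_mono ψ).1 hS.exact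
  have h₂ : L'.ExactAt 2 := by
    rw [HomologicalComplex.exactAt_iff' _ 1 2 3 (by simp) (by simp)]
    let ψ : L'.sc' 1 2 3 ⟶ L.sc' 0 1 2 :=
      { τ₁ := S.g ≫ e.inv, τ₂ := 𝟙 _, τ₃ := 𝟙 _,
        comm₁₂ := (Category.assoc _ _ _).trans (Category.comp_id _).symm,
        comm₂₃ := (Category.id_comp _).trans (Category.comp_id _).symm }
    have : Epi ψ.τ₁ := inferInstanceAs (Epi (S.g ≫ e.inv))
    have : IsIso ψ.τ₂ := inferInstanceAs (IsIso (𝟙 (L.X 1)))
    have : Mono ψ.τ₃ := inferInstanceAs (Mono (𝟙 (L.X 2)))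
    exact (ShortComplex.exact_iff_of_epi_of_isIso_of_mono ψ).2
      ((HomologicalComplex.exactAt_iff' L 0 1 2 (by simp) (by simp)).1 (hex 1 le_rfl (by omega)))
  refine h L' ⟨Iso.refl _⟩ (inferInstanceAs (Mono S.f)) (fun i hi hi' => ?_) (fun i hi => ?_) ?_
    (fun i hi hi' => ?_)
  · match i, hi with
    | 1, _ => exact h₁
    | 2, _ => exact h₂
    | i + 3, _ =>
      rw [HomologicalComplex.exactAt_iff' _ (i + 2) (i + 3) (i + 4) (by simp) (by simp)]
      exact (HomologicalComplex.exactAt_iff' L (i + 1) (i + 2) (i + 3) (by simp) (by simp)).1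
        (hex (i + 2) (by omega) (by omega))
  · obtain ⟨i, rfl⟩ : ∃ j, i = j + 2 := ⟨i - 2, by omega⟩
    exact hz (i + 1) (by omega)
  · cases d with
    | zero => exact inferInstanceAs (Epi (S.g ≫ e.inv ≫ L.d 0 1))
    | succ d => exact he
  · match i, hi with
    | 1, _ => exact hP
    | i + 2, _ => exact hPL (i + 1) (by omega) (by omega)

include h1 h2 in
theorem exists_resolution (n : ℕ) (hn : 1 ≤ n)
    (h3 : ∀ K : CochainComplex A ℕ, (∀ i : ℕ, 1 ≤ i → i ≤ n → K.ExactAt i) →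
      (∀ i : ℕ, n < i → IsZero (K.X i)) →
      Epi (K.d (n - 1) n) → (∀ i : ℕ, i < n → P (K.X i)) → P (K.X n))
    (X : CochainComplex A ℤ) :
    ∃ (I : CochainComplex A ℤ) (f : X ⟶ I), QuasiIso f ∧ ∀ k : ℤ, P (I.X k) := by
  obtain ⟨R, s, hR, hs⟩ := FinDimRes.exists_right_res P (isAdditiveClass P h1 h2) (V P)
    (prop_of_V_zero P h1 h2) (V_step P) h1 n X fun k => V_top P n hn h3 _
  obtain ⟨R, rfl⟩ := HomotopyCategory.quotient_obj_surjective R
  obtain ⟨f, rfl⟩ := (HomotopyCategory.quotient _ _).map_surjective s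
  exact ⟨R, f, (HomotopyCategory.quotient_map_mem_quasiIso_iff f).1 hs, hR⟩

end Groth.Agent.Lib.ClassRes.Basic
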